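import Groth.Statements.S10830
-- import your own Groth.Agent.* helpers here

set_option autoImplicit false
universe u
open Topology TopologicalSpace
open TopDim

namespace Groth.Agent.S10830

/-- In an irreducible topological space X of finite Krull dimension, every proper closed subset Y has
strictly smaller Krull dimension than X. -/
theorem result (X : Type u) [TopologicalSpace X]
    [IrreducibleSpace X] (hfin : topologicalKrullDim X ≠ ⊤) (Y : Set X) (hY : IsClosed Y) (hYX : Y ≠ Set.univ) :
    topologicalKrullDim ↥Y < topologicalKrullDim X := by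
  have hle : topologicalKrullDim ↥Y ≤ topologicalKrullDim X := topologicalKrullDim_subspace_le X Y
  refine lt_of_le_of_ne hle fun heq => ?_
  haveI : Nonempty (TopologicalSpace.IrreducibleCloseds X) :=
    ⟨⟨Set.univ, IrreducibleSpace.isIrreducible_univ X, isClosed_univ⟩⟩
  have hX0 : (0 : WithBot ℕ∞) ≤ topologicalKrullDim X := Order.krullDim_nonneg
  have h1 : topologicalKrullDim X ≠ ⊥ := fun h => by rw [h] at hX0; exact absurd hX0 (by simp)
  obtain ⟨m, hm⟩ := WithBot.ne_bot_iff_exists.mp h1
  have h2 : m ≠ ⊤ := fun h => hfin (by rw [← hm, h]; rfl)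
  obtain ⟨n, hn⟩ := ENat.ne_top_iff_exists.mp h2
  have hdim : topologicalKrullDim X = (n : WithBot ℕ∞) := by rw [← hm, ← hn]; rfl
  obtain ⟨l, hl⟩ := Order.le_krullDim_iff.mp (show (n : WithBot ℕ∞) ≤ Order.krullDim (TopologicalSpace.IrreducibleCloseds ↥Y) from by
    have : topologicalKrullDim ↥Y = (n : WithBot ℕ∞) := heq.trans hdim
    exact this.ge)
  have hind : Topology.IsInducing (Subtype.val : Y → X) := Topology.IsInducing.subtypeVal
  let l' : LTSeries (TopologicalSpace.IrreducibleCloseds X) :=
    l.map _ (TopologicalSpace.IrreducibleCloseds.map_strictMono_of_isInducing hind)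
  have hlast : l'.last < (⟨Set.univ, IrreducibleSpace.isIrreducible_univ X, isClosed_univ⟩ : TopologicalSpace.IrreducibleCloseds X) := by
    rw [← SetLike.coe_ssubset_coe]
    refine ⟨Set.subset_univ _, fun hsub => hYX ?_⟩
    apply Set.eq_univ_of_univ_subset
    refine hsub.trans ?_
    show closure (Subtype.val '' (l.last : Set Y)) ⊆ Y
    exact closure_minimal (by rintro _ ⟨y, _, rfl⟩; exact y.2) hY
  have hlen := Order.LTSeries.length_le_krullDim (l'.snoc _ hlast)
  have hlen' : ((n + 1 : ℕ) : WithBot ℕ∞) ≤ (n : WithBot ℕ∞) := by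
    rw [← hdim]
    have e : (l'.snoc _ hlast).length = n + 1 := by simp [l', hl]
    rw [← e]
    exact hlen
  have : n + 1 ≤ n := by exact_mod_cast hlen'
  omega

end Groth.Agent.S10830
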