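import Groth.Statements.S10831
-- import your own Groth.Agent.* helpers here

set_option autoImplicit false
universe u
open Topology TopologicalSpace
open TopDim

namespace Groth.Agent.S10831

/-- The Krull dimension of a topological space is the supremum of the Krull dimensions of its
irreducible components. -/
theorem result (X : Type u) [TopologicalSpace X] :
    topologicalKrullDim X = ⨆ Y ∈ irreducibleComponents X, topologicalKrullDim ↥Y := by
  apply le_antisymm
  · unfold topologicalKrullDim
    rw [Order.krullDim]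
    apply iSup_le
    intro p
    obtain ⟨Y, hYp, hsub, hmax⟩ := exists_preirreducible (p.last : Set X) p.last.isIrreducible'.isPreirreducible
    have hYirr : IsIrreducible Y := ⟨p.last.isIrreducible'.nonempty.mono hsub, hYp⟩
    have hY : Y ∈ irreducibleComponents X :=
      ⟨hYirr, fun u hu hle => (hmax u hu.isPreirreducible hle).le⟩
    refine le_iSup₂_of_le Y hY ?_
    have hsubi : ∀ i, (p i : Set X) ⊆ Y := fun i =>
      (show (p i : Set X) ⊆ p.last from (LTSeries.monotone p (Fin.le_last i))).trans hsub
    have hirr : ∀ i, IsIrreducible ((Subtype.val : Y → X) ⁻¹' (p i : Set X)) := by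
      intro i
      obtain ⟨z, hz⟩ := (p i).isIrreducible'.nonempty
      refine ⟨⟨⟨z, hsubi i hz⟩, hz⟩, ?_⟩
      intro u v hu hv hu' hv'
      obtain ⟨u0, hu0, rfl⟩ := isOpen_induced_iff.mp hu
      obtain ⟨v0, hv0, rfl⟩ := isOpen_induced_iff.mp hv
      obtain ⟨a, ha1, ha2⟩ := hu'
      obtain ⟨b, hb1, hb2⟩ := hv'
      obtain ⟨c, hc1, hc2⟩ := (p i).isIrreducible'.isPreirreducible u0 v0 hu0 hv0 ⟨a.1, ha1, ha2⟩ ⟨b.1, hb1, hb2⟩
      exact ⟨⟨c, hsubi i hc1⟩, hc1, hc2⟩
    let q : LTSeries (TopologicalSpace.IrreducibleCloseds Y) :=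
      { length := p.length
        toFun := fun i => ⟨(Subtype.val : Y → X) ⁻¹' (p i : Set X), hirr i, (p i).isClosed'.preimage continuous_subtype_val⟩
        step := fun i => by
          have h : p i.castSucc < p i.succ := p.step i
          show (⟨(Subtype.val : Y → X) ⁻¹' (p i.castSucc : Set X), hirr _, (p i.castSucc).isClosed'.preimage continuous_subtype_val⟩ : TopologicalSpace.IrreducibleCloseds Y) < ⟨(Subtype.val : Y → X) ⁻¹' (p i.succ : Set X), hirr _, (p i.succ).isClosed'.preimage continuous_subtype_val⟩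
          rw [← SetLike.coe_ssubset_coe] at h ⊢
          obtain ⟨x, hx1, hx2⟩ := Set.exists_of_ssubset h
          exact ⟨fun y hy => h.1 hy, fun hle => hx2 (hle (a := ⟨x, hsubi _ hx1⟩) hx1)⟩ }
    exact Order.LTSeries.length_le_krullDim q
  · exact iSup₂_le fun Y _ => topologicalKrullDim_subspace_le X Y

end Groth.Agent.S10831
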