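import Groth.Statements.S11017
-- import your own Groth.Agent.* helpers here

set_option autoImplicit false
open FunFld

namespace Groth.Agent.S11017

/-- For a Weil differential `ω` with divisor `C`, `ord_P [ω] ≥ e` iff `ω` kills every repartition
concentrated at `P` with `P`-component of order at least `-e`. -/
theorem result (k K : Type*) [Field k] [Field K] [Algebra k K] (ω : Module.Dual k (FunFld.adele k K)) (C : FunFld.Divisor k K) (hω : FunFld.IsDivOf ω C)
    (P : FunFld.Place k K) (e : ℤ) :
    e ≤ C P ↔ ∀ (a : FunFld.Place k K → K) (ha : a ∈ FunFld.adele k K),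
      (∀ Q, Q ≠ P → a Q = 0) → P.1 (a P) ≤ WithZero.exp e → ω ⟨a, ha⟩ = 0 := by
  classical
  constructor
  · intro he a ha hsupp hP
    have hωC : ω ∈ FunFld.WD C := (hω C).mpr le_rfl
    rw [FunFld.WD, Submodule.mem_dualAnnihilator] at hωC
    apply hωC
    show a ∈ FunFld.AD C ⊔ LinearMap.range (FunFld.diag k K)
    apply Submodule.mem_sup_left
    intro Q
    by_cases hQ : Q = P
    · subst hQ
      exact hP.trans (WithZero.exp_le_exp.mpr he)
    · rw [hsupp Q hQ]; simp
  · intro h
    by_contra hlt
    push_neg at hlt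
    obtain ⟨E, hE⟩ : ∃ E : FunFld.Divisor k K, E = C + Finsupp.single P (e - C P) := ⟨_, rfl⟩
    have hEP : E P = e := by simp [hE]
    have hEQ : ∀ Q, Q ≠ P → E Q = C Q := by
      intro Q hQ
      simp [hE, Finsupp.single_apply, Ne.symm hQ]
    have hωC : ω ∈ FunFld.WD C := (hω C).mpr le_rfl
    rw [FunFld.WD, Submodule.mem_dualAnnihilator] at hωC
    have hωE : ω ∈ FunFld.WD E := by
      rw [FunFld.WD, Submodule.mem_dualAnnihilator]
      intro a ha
      have ha' : a.1 ∈ FunFld.AD E ⊔ LinearMap.range (FunFld.diag k K) := ha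
      rw [Submodule.mem_sup] at ha'
      obtain ⟨b, hb, c, hc, hbc⟩ := ha'
      have hb' : ∀ Q : FunFld.Place k K, Q.1 (b Q) ≤ WithZero.exp (E Q) := hb
      let b2 : FunFld.Place k K → K := fun Q => if Q = P then b P else 0
      have hb2 : b2 ∈ FunFld.adele k K := by
        show ∀ᶠ Q : FunFld.Place k K in Filter.cofinite, Q.1 (b2 Q) ≤ 1
        rw [Filter.eventually_cofinite]
        apply (Set.finite_singleton P).subset
        intro Q hQ
        by_contra hne
        apply hQ
        show Q.1 (b2 Q) ≤ 1
        have : b2 Q = 0 := if_neg hne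
        rw [this]; simp
      have h2 : ω ⟨b2, hb2⟩ = 0 := h b2 hb2 (fun Q hQ => if_neg hQ) (by
        have : b2 P = b P := if_pos rfl
        rw [this, ← hEP]; exact hb' P)
      have h1 : a - ⟨b2, hb2⟩ ∈ FunFld.ADK C := by
        show a.1 - b2 ∈ FunFld.AD C ⊔ LinearMap.range (FunFld.diag k K)
        rw [Submodule.mem_sup]
        refine ⟨b - b2, ?_, c, hc, ?_⟩
        · intro Q
          show Q.1 (b Q - b2 Q) ≤ WithZero.exp (C Q)
          by_cases hQ : Q = P
          · have : b2 Q = b Q := by rw [hQ]; exact if_pos rfl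
            rw [this, sub_self]; simp
          · have : b2 Q = 0 := if_neg hQ
            rw [this, sub_zero, ← hEQ Q hQ]; exact hb' Q
        · rw [← hbc]; abel
      have := hωC _ h1
      rw [map_sub, h2, sub_zero] at this
      exact this
    have hle := (hω E).mp hωE P
    rw [hEP] at hle
    exact absurd hle (not_le.mpr hlt)

end Groth.Agent.S11017
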