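import Groth.Statements.S11096
-- import your own Groth.Agent.* helpers here

set_option autoImplicit false
universe u
open Neron

namespace Groth.Agent.S11096

/-- Let a Weierstrass equation have coefficients in a commutative ring R and let I be an ideal with a₃,
a₄, a₆ ∈ I. If the discriminant Δ does not lie in I ^ 2, then a₆ does not lie in I ^ 2 and b₂ does
not lie in I. (For a discrete valuation ring with maximal ideal (π): if π divides a₃, a₄, a₆ and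
v(Δ) = 1, then v(a₆) = 1 and π does not divide b₂.) -/
theorem result {R : Type u} [CommRing R] (W : WeierstrassCurve R)
    (I : Ideal R) (h3 : W.a₃ ∈ I) (h4 : W.a₄ ∈ I) (h6 : W.a₆ ∈ I) (hΔ : W.Δ ∉ I ^ 2) :
    W.a₆ ∉ I ^ 2 ∧ W.b₂ ∉ I := by
  have hsq : ∀ {a b : R}, a ∈ I → b ∈ I → a * b ∈ I ^ 2 := fun ha hb => by
    rw [pow_two]; exact Ideal.mul_mem_mul ha hb
  have hb4 : W.b₄ ∈ I := by
    simp only [WeierstrassCurve.b₄]
    exact Ideal.add_mem _ (Ideal.mul_mem_left _ _ h4) (Ideal.mul_mem_left _ _ h3)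
  have hb6 : W.b₆ ∈ I := by
    simp only [WeierstrassCurve.b₆]
    exact Ideal.add_mem _ (Ideal.pow_mem_of_mem _ h3 2 (by norm_num)) (Ideal.mul_mem_left _ _ h6)
  constructor
  · intro h6'
    apply hΔ
    have hb6' : W.b₆ ∈ I ^ 2 := by
      simp only [WeierstrassCurve.b₆]
      exact Ideal.add_mem _ (by rw [pow_two W.a₃]; exact hsq h3 h3) (Ideal.mul_mem_left _ _ h6')
    have hb8' : W.b₈ ∈ I ^ 2 := by
      have : W.b₈ = W.a₆ * (W.a₁ ^ 2 + 4 * W.a₂) + (W.a₃ * W.a₄) * (-W.a₁) + (W.a₃ * W.a₃) * W.a₂ + (W.a₄ * W.a₄) * (-1) := by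
        simp only [WeierstrassCurve.b₈]
        ring
      rw [this]
      exact Ideal.add_mem _ (Ideal.add_mem _ (Ideal.add_mem _ (Ideal.mul_mem_right _ _ h6') (Ideal.mul_mem_right _ _ (hsq h3 h4))) (Ideal.mul_mem_right _ _ (hsq h3 h3))) (Ideal.mul_mem_right _ _ (hsq h4 h4))
    have : W.Δ = W.b₈ * (-(W.b₂ * W.b₂)) + (W.b₄ * W.b₄) * (-8 * W.b₄) + W.b₆ * (-27 * W.b₆) + W.b₆ * (9 * W.b₂ * W.b₄) := by
      simp only [WeierstrassCurve.Δ]
      ring
    rw [this]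
    exact Ideal.add_mem _ (Ideal.add_mem _ (Ideal.add_mem _ (Ideal.mul_mem_right _ _ hb8') (Ideal.mul_mem_right _ _ (hsq hb4 hb4))) (Ideal.mul_mem_right _ _ hb6')) (Ideal.mul_mem_right _ _ hb6')
  · intro hb
    apply hΔ
    have : W.Δ = (W.b₂ * W.b₂) * (-W.b₈) + (W.b₄ * W.b₄) * (-8 * W.b₄) + (W.b₆ * W.b₆) * (-27) + (W.b₂ * W.b₄) * (9 * W.b₆) := by
      simp only [WeierstrassCurve.Δ]
      ring
    rw [this]
    exact Ideal.add_mem _ (Ideal.add_mem _ (Ideal.add_mem _ (Ideal.mul_mem_right _ _ (hsq hb hb)) (Ideal.mul_mem_right _ _ (hsq hb4 hb4))) (Ideal.mul_mem_right _ _ (hsq hb6 hb6))) (Ideal.mul_mem_right _ _ (hsq hb hb4))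

end Groth.Agent.S11096
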