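import Groth.Statements.S12418
-- import your own Groth.Agent.* helpers here

set_option autoImplicit false
universe u
open CAlg

namespace Groth.Agent.S12418

/-- Let R be a Noetherian ring and b ∈ R; for x outside the ideal (b) put I_x = ((b) : x), the ideal of
r with r x ∈ (b). If s ∉ (b) and I_s is maximal among the I_x (x ∉ (b)), then I_s is prime. -/
theorem result {R : Type u} [CommRing R] [IsNoetherianRing R]
    (b s : R) (hs : s ∉ Ideal.span {b})
    (hmax : ∀ x : R, x ∉ Ideal.span {b} →
      Submodule.colon (Ideal.span {b}) (Ideal.span {s}) ≤ Submodule.colon (Ideal.span {b}) (Ideal.span {x}) →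
      Submodule.colon (Ideal.span {b}) (Ideal.span {x}) = Submodule.colon (Ideal.span {b}) (Ideal.span {s})) :
    (Submodule.colon (Ideal.span {b}) (Ideal.span ({s} : Set R))).IsPrime := by
  have hmem : ∀ (x r : R), r ∈ Submodule.colon (Ideal.span {b}) (Ideal.span ({x} : Set R) : Set R) ↔ r * x ∈ Ideal.span {b} := by
    intro x r
    rw [Submodule.mem_colon]
    constructor
    · intro h
      exact h x (Ideal.mem_span_singleton_self x)
    · intro h y hy
      obtain ⟨c, rfl⟩ := Ideal.mem_span_singleton'.mp hy
      have : r • (c * x) = c * (r * x) := by simp [smul_eq_mul]; ring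
      rw [this]
      exact Ideal.mul_mem_left _ _ h
  constructor
  · intro htop
    have : (1 : R) ∈ Submodule.colon (Ideal.span {b}) (Ideal.span ({s} : Set R) : Set R) := by
      rw [htop]; trivial
    rw [hmem] at this
    simp at this
    exact hs (by simpa using this)
  · intro x y hxy
    rw [hmem] at hxy
    by_cases hy : y * s ∈ Ideal.span {b}
    · right; rw [hmem]; exact hy
    · left
      have hle : Submodule.colon (Ideal.span {b}) (Ideal.span {s} : Set R) ≤ Submodule.colon (Ideal.span {b}) (Ideal.span {y * s} : Set R) := by
        intro r hr
        rw [hmem] at hr ⊢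
        have : r * (y * s) = y * (r * s) := by ring
        rw [this]
        exact Ideal.mul_mem_left _ _ hr
      have := hmax (y * s) hy hle
      have hx : x ∈ Submodule.colon (Ideal.span {b}) (Ideal.span {y * s} : Set R) := by
        rw [hmem]
        have : x * (y * s) = x * y * s := by ring
        rw [this]; exact hxy
      rw [this] at hx
      exact hx

end Groth.Agent.S12418
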