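import Groth.Statements.S12550
import Mathlib.Tactic.Linarith
import Mathlib.LinearAlgebra.FiniteDimensional.Lemmas
import Mathlib.Data.Set.Card

set_option autoImplicit false
universe u
open GIT

namespace Groth.Agent.S12550

/-- Let V be a finite-dimensional vector space over a field K and x_0, …, x_m non-zero vectors, a
configuration of m + 1 points of the projective space P(V). If for every subspace L with 0 ≠ L ≠ V
the number of indices i with x_i ∈ L, multiplied by dim V, is less than dim L · (m + 1) (the
configuration is stable), then no two proper subspaces L', L'' with L' ∩ L'' = 0 contain between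
them all the x_i. -/
theorem result (K : Type u) [Field K]
    (V : Type u) [AddCommGroup V] [Module K V] [FiniteDimensional K V]
    (m : ℕ) (x : Fin (m + 1) → V) (hx : ∀ i, x i ≠ 0)
    (hst : ∀ L : Submodule K V, L ≠ ⊥ → L ≠ ⊤ →
      Set.ncard {i : Fin (m + 1) | x i ∈ L} * Module.finrank K V < Module.finrank K L * (m + 1)) :
    ¬ ∃ L' L'' : Submodule K V, L' ≠ ⊤ ∧ L'' ≠ ⊤ ∧ Disjoint L' L'' ∧ ∀ i, x i ∈ L' ∨ x i ∈ L'' := by
  rintro ⟨L', L'', h1, h2, hd, hcov⟩
  have hweak : ∀ L : Submodule K V, L ≠ ⊤ →
      Set.ncard {i : Fin (m + 1) | x i ∈ L} * Module.finrank K V ≤ Module.finrank K L * (m + 1) := by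
    intro L hL
    by_cases hb : L = ⊥
    · subst hb
      have : {i : Fin (m + 1) | x i ∈ (⊥ : Submodule K V)} = ∅ := by
        ext i; simp [hx i]
      rw [this]; simp
    · exact (hst L hb hL).le
  have hcard : m + 1 ≤ Set.ncard {i : Fin (m + 1) | x i ∈ L'} + Set.ncard {i : Fin (m + 1) | x i ∈ L''} := by
    have hU : {i : Fin (m + 1) | x i ∈ L'} ∪ {i : Fin (m + 1) | x i ∈ L''} = Set.univ := by
      ext i; simpa using hcov i
    have := Set.ncard_union_le {i : Fin (m + 1) | x i ∈ L'} {i : Fin (m + 1) | x i ∈ L''}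
    rw [hU, Set.ncard_univ, Nat.card_eq_fintype_card, Fintype.card_fin] at this
    exact this
  have hdim : Module.finrank K L' + Module.finrank K L'' ≤ Module.finrank K V :=
    Submodule.finrank_add_finrank_le_of_disjoint hd
  have hA : (Module.finrank K L' + Module.finrank K L'') * (m + 1) ≤ Module.finrank K V * (m + 1) :=
    Nat.mul_le_mul_right _ hdim
  have hB : (m + 1) * Module.finrank K V ≤
      (Set.ncard {i : Fin (m + 1) | x i ∈ L'} + Set.ncard {i : Fin (m + 1) | x i ∈ L''}) * Module.finrank K V :=
    Nat.mul_le_mul_right _ hcard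
  rw [add_mul] at hA hB
  rcases hcov 0 with h0 | h0
  · have hb : L' ≠ ⊥ := by
      rintro rfl
      exact hx 0 (by simpa using h0)
    have e1 := hst L' hb h1
    have e2 := hweak L'' h2
    linarith [mul_comm (Module.finrank K V) (m + 1)]
  · have hb : L'' ≠ ⊥ := by
      rintro rfl
      exact hx 0 (by simpa using h0)
    have e1 := hst L'' hb h2
    have e2 := hweak L' h1
    linarith [mul_comm (Module.finrank K V) (m + 1)]

end Groth.Agent.S12550
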