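import Groth.Statements.S13130
import Mathlib.RingTheory.IntegralClosure.Algebra.Basic
import Mathlib.RingTheory.IntegralClosure.IsIntegral.Basic
import Mathlib.GroupTheory.OrderOfElement

set_option autoImplicit false
universe u v
open KumFam

namespace Groth.Agent.S13130

/-- Let R be a nontrivial commutative ring and M a commutative group, with group algebra R[M], the
coordinate ring of the diagonalizable group scheme D(M) over Spec R. Then D(M) is integral over Spec
R, i.e. R[M] is an integral R-algebra, if and only if M is a torsion group. (The published statement
is over an arbitrary base scheme; the question is local and this row is the affine form, with R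
nontrivial so that the elements of M are R-linearly independent.) -/
theorem result (R : Type u) [CommRing R] [Nontrivial R]
    (M : Type v) [CommGroup M] :
    Algebra.IsIntegral R (MonoidAlgebra R M) ↔ IsMulTorsion M := by
  constructor
  · intro hint m
    by_contra hm
    have hinj : Function.Injective (fun n : ℕ => m ^ n) := injective_pow_iff_not_isOfFinOrder.mpr hm
    obtain ⟨P, hP, hroot⟩ := hint.isIntegral (MonoidAlgebra.of R M m)
    rw [← Polynomial.aeval_def, Polynomial.aeval_eq_sum_range] at hroot
    have h1 := congrArg (fun z : MonoidAlgebra R M => z.coeff (m ^ P.natDegree)) hroot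
    simp only [MonoidAlgebra.coeff_sum, MonoidAlgebra.coeff_zero, Finsupp.coe_finsetSum, Finset.sum_apply,
      Finsupp.coe_zero, Pi.zero_apply, MonoidAlgebra.coeff_smul, Finsupp.smul_apply, ← map_pow,
      MonoidAlgebra.of_apply, MonoidAlgebra.coeff_single, Finsupp.single_apply, hinj.eq_iff] at h1
    simp at h1
    have h3 : ∑ x ∈ Finset.range (P.natDegree + 1),
        P.coeff x * (Finsupp.single (m ^ x) (1 : R)) (m ^ P.natDegree) = P.coeff P.natDegree := by
      rw [Finset.sum_eq_single P.natDegree]
      · simp
      · intro b _ hb
        rw [Finsupp.single_eq_of_ne (fun h => hb (hinj h.symm)), mul_zero]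
      · intro h
        exact absurd (Finset.mem_range.mpr (Nat.lt_succ_self _)) h
    rw [h3, hP.coeff_natDegree] at h1
    exact one_ne_zero h1
  · intro hM
    refine ⟨fun x => ?_⟩
    induction x using MonoidAlgebra.induction_on with
    | of m =>
      obtain ⟨n, hn, hmn⟩ := isOfFinOrder_iff_pow_eq_one.mp (hM m)
      apply IsIntegral.of_pow hn
      rw [← map_pow, hmn, map_one]
      exact isIntegral_one
    | add f g hf hg => exact hf.add hg
    | smul r f hf => exact hf.smul r

end Groth.Agent.S13130
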