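import Groth.Statements.S13163
-- import your own Groth.Agent.* helpers here

set_option autoImplicit false
universe u
open ZeroCyc

namespace Groth.Agent.S13163

open Polynomial in
/-- Let P_d(T) = ∏_{0 ≤ i < j ≤ d} (T^i − T^j) − 1 ∈ ℤ[T]. Every residue field of ℤ[T]/(P_d), i.e. every
field receiving a ring homomorphism from it, has at least d + 1 elements. -/
theorem result (d : ℕ) (k : Type u) [Field k]
    (φ : (ℤ[X] ⧸ Ideal.span {(∏ j ∈ Finset.range (d + 1), ∏ i ∈ Finset.range j,
        ((X : ℤ[X]) ^ i - X ^ j)) - 1}) →+* k) :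
    ((d + 1 : ℕ) : Cardinal) ≤ Cardinal.mk k := by
  set P : ℤ[X] := (∏ j ∈ Finset.range (d + 1), ∏ i ∈ Finset.range j, ((X : ℤ[X]) ^ i - X ^ j)) - 1 with hP
  let ψ : ℤ[X] →+* k := φ.comp (Ideal.Quotient.mk (Ideal.span {P}))
  have hψ : ψ P = 0 := by
    have : Ideal.Quotient.mk (Ideal.span {P}) P = 0 :=
      Ideal.Quotient.eq_zero_iff_mem.mpr (Ideal.mem_span_singleton_self P)
    simp [ψ, this]
  have hprod : ∏ j ∈ Finset.range (d + 1), ∏ i ∈ Finset.range j, ((ψ X) ^ i - (ψ X) ^ j) = 1 := by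
    have h1 := hψ
    rw [hP, map_sub, map_one, sub_eq_zero] at h1
    simpa [map_prod] using h1
  have hne : ∀ i j : ℕ, i < j → j < d + 1 → (ψ X) ^ i ≠ (ψ X) ^ j := by
    intro i j hij hj heq
    have : ∏ j ∈ Finset.range (d + 1), ∏ i ∈ Finset.range j, ((ψ X) ^ i - (ψ X) ^ j) = 0 := by
      apply Finset.prod_eq_zero (Finset.mem_range.mpr hj)
      apply Finset.prod_eq_zero (Finset.mem_range.mpr hij)
      rw [heq, sub_self]
    rw [hprod] at this
    exact one_ne_zero this
  have hinj : Function.Injective (fun i : Fin (d + 1) => (ψ X) ^ (i : ℕ)) := by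
    intro a b hab
    by_contra hne'
    rcases lt_or_gt_of_ne (fun h => hne' (Fin.ext h) : (a : ℕ) ≠ b) with h | h
    · exact hne a b h b.2 hab
    · exact hne b a h a.2 hab.symm
  have := Cardinal.lift_mk_le_lift_mk_of_injective hinj
  simpa using this

end Groth.Agent.S13163
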