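import Groth.Statements.S13609
-- import your own Groth.Agent.* helpers here

set_option autoImplicit false
universe u v
open CAlg

namespace Groth.Agent.S13609

/-- A direct summand of a module that is complete and separated for the I-adic topology is again
complete and separated: for a commutative ring A, an ideal I and A-modules M₁, M₂, if M₁ × M₂ is
I-adically complete then so is M₁. -/
theorem result (A : Type u) [CommRing A] (I : Ideal A)
    (M₁ M₂ : Type v) [AddCommGroup M₁] [Module A M₁] [AddCommGroup M₂] [Module A M₂]
    [IsAdicComplete I (M₁ × M₂)] : IsAdicComplete I M₁ := by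
  have hH : IsHausdorff I (M₁ × M₂) := inferInstance
  have hP : IsPrecomplete I (M₁ × M₂) := inferInstance
  have key : ∀ (n : ℕ) (x : M₁), x ∈ (I ^ n • ⊤ : Submodule A M₁) → ((x, 0) : M₁ × M₂) ∈ (I ^ n • ⊤ : Submodule A (M₁ × M₂)) := by
    intro n x hx
    have := Submodule.mem_map_of_mem (f := LinearMap.inl A M₁ M₂) hx
    rw [Submodule.map_smul''] at this
    exact Submodule.smul_mono le_rfl le_top this
  have key2 : ∀ (n : ℕ) (z : M₁ × M₂), z ∈ (I ^ n • ⊤ : Submodule A (M₁ × M₂)) → z.1 ∈ (I ^ n • ⊤ : Submodule A M₁) := by
    intro n z hz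
    have := Submodule.mem_map_of_mem (f := LinearMap.fst A M₁ M₂) hz
    rw [Submodule.map_smul''] at this
    exact Submodule.smul_mono le_rfl le_top this
  refine { haus' := ?_, prec' := ?_ }
  · intro x hx
    have : ((x, 0) : M₁ × M₂) = 0 := by
      apply hH.haus'
      intro n
      rw [SModEq.zero]
      apply key
      have := hx n
      rwa [SModEq.zero] at this
    exact congrArg Prod.fst this
  · intro f hf
    obtain ⟨L, hL⟩ := hP.prec' (fun n => ((f n, 0) : M₁ × M₂)) (by
      intro m n hmn
      have := hf hmn
      rw [SModEq.sub_mem] at this ⊢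
      have h2 := key m _ this
      simpa using h2)
    refine ⟨L.1, fun n => ?_⟩
    have := hL n
    rw [SModEq.sub_mem] at this ⊢
    have h2 := key2 n _ this
    simpa using h2

end Groth.Agent.S13609
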