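import Groth.Statements.S14358
import Mathlib
-- import your own Groth.Agent.* helpers here

set_option autoImplicit false
universe u
open CAlg

namespace Groth.Agent.S14358

/-- Let A be a Noetherian integral domain with fraction field K and let r ∈ K. Then r belongs to A if
and only if, for every nonzero g ∈ A and every associated prime p of the A-module A/(g), the element
r belongs to the local ring A_p inside K, i.e. s r = a in K for some a ∈ A and some s ∈ A outside p. -/
theorem result (A K : Type u)
    [CommRing A] [IsDomain A] [IsNoetherianRing A] [Field K] [Algebra A K] [IsFractionRing A K]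
    (r : K) :
    r ∈ Set.range (algebraMap A K) ↔
      ∀ g : A, g ≠ 0 → ∀ p ∈ associatedPrimes A (A ⧸ Ideal.span {g}),
        ∃ a s : A, s ∉ p ∧ algebraMap A K s * r = algebraMap A K a := by
  constructor
  · rintro ⟨a, rfl⟩ g _ p hp
    have hpp : p.IsPrime := IsAssociatedPrime.isPrime hp
    exact ⟨a, 1, fun h => hpp.ne_top ((Ideal.eq_top_iff_one p).2 h), by simp⟩
  · intro H
    obtain ⟨a, g, hg, rfl⟩ := IsFractionRing.div_surjective (A := A) r
    have hg0 : g ≠ 0 := nonZeroDivisors.ne_zero hg
    have hgK : algebraMap A K g ≠ 0 := (map_ne_zero_iff _ (IsFractionRing.injective A K)).2 hg0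
    by_contra hcon
    have hx : (Ideal.Quotient.mk (Ideal.span {g}) a) ≠ 0 := by
      intro h0
      rw [Ideal.Quotient.eq_zero_iff_mem, Ideal.mem_span_singleton] at h0
      obtain ⟨c, rfl⟩ := h0
      apply hcon
      refine ⟨c, ?_⟩
      rw [map_mul, mul_div_cancel_left₀ _ hgK]
    obtain ⟨p, hp, hle⟩ := exists_le_isAssociatedPrime_of_isNoetherianRing (R := A) _ hx
    obtain ⟨a', s, hs, hsr⟩ := H g hg0 p hp
    apply hs
    apply hle
    rw [Submodule.mem_colon_singleton, Submodule.mem_bot]
    have h1 : s * a = g * a' := by
      apply IsFractionRing.injective A K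
      rw [map_mul, map_mul]
      field_simp at hsr
      rw [hsr, mul_comm]
    have h2 : s • (Ideal.Quotient.mk (Ideal.span {g}) a) = Ideal.Quotient.mk (Ideal.span {g}) (s * a) := by
      rw [map_mul]; rfl
    rw [h2, h1, Ideal.Quotient.eq_zero_iff_mem, Ideal.mem_span_singleton]
    exact Dvd.intro _ rfl

end Groth.Agent.S14358
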