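import Groth.Statements.S14363
import Mathlib
-- import your own Groth.Agent.* helpers here

set_option autoImplicit false
universe u
open CAlg

namespace Groth.Agent.S14363

/-- Let A be a Noetherian ring and 0 → M' → M → M'' → 0 a short exact sequence of A-modules. If a prime
p of A is an associated prime of M'' and is not in the support of M', then p is an associated prime
of M. -/
theorem result (A : Type u) [CommRing A] [IsNoetherianRing A]
    (M' M M'' : Type u) [AddCommGroup M'] [Module A M'] [AddCommGroup M] [Module A M]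
    [AddCommGroup M''] [Module A M'']
    (f : M' →ₗ[A] M) (g : M →ₗ[A] M'') (hf : Function.Injective f) (hg : Function.Surjective g)
    (hfg : Function.Exact f g)
    (p : PrimeSpectrum A) (hp : p.asIdeal ∈ associatedPrimes A M'') (hsupp : p ∉ Module.support A M') :
    p.asIdeal ∈ associatedPrimes A M := by
  rw [AssociatedPrimes.mem_iff, isAssociatedPrime_iff] at hp ⊢
  obtain ⟨hprime, m'', hm''⟩ := hp
  obtain ⟨m, rfl⟩ := hg m''
  have hmem : ∀ r : A, r ∈ p.asIdeal ↔ r • g m = 0 := by
    intro r; rw [hm'', Submodule.mem_colon_singleton, Submodule.mem_bot]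
  rw [Module.notMem_support_iff'] at hsupp
  have hFG : p.asIdeal.FG := IsNoetherian.noetherian _
  have claim : ∃ s ∉ p.asIdeal, ∀ a ∈ p.asIdeal, s • a • m = 0 := by
    obtain ⟨S, hS⟩ := hFG
    have h1 : ∀ a ∈ p.asIdeal, ∃ s ∉ p.asIdeal, s • a • m = 0 := by
      intro a ha
      have h2 : g (a • m) = 0 := by rw [map_smul]; exact (hmem a).1 ha
      obtain ⟨m', hm'⟩ := (hfg _).1 h2
      obtain ⟨s, hs, hs0⟩ := hsupp m'
      exact ⟨s, hs, by rw [← hm', ← map_smul, hs0, map_zero]⟩
    choose! σ hσ1 hσ2 using h1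
    have hSp : ∀ x ∈ S, x ∈ p.asIdeal := fun x hx => hS ▸ Ideal.subset_span hx
    refine ⟨∏ a ∈ S, σ a, ?_, ?_⟩
    · intro h
      obtain ⟨a, haS, ha⟩ := (hprime.prod_mem_iff).1 h
      exact hσ1 a (hSp a haS) ha
    · intro a ha
      rw [← hS] at ha
      refine Submodule.span_induction ?_ ?_ ?_ ?_ ha
      · intro x hx
        obtain ⟨c, hc⟩ := Finset.dvd_prod_of_mem σ hx
        rw [hc, mul_comm, mul_smul, hσ2 x (hSp x hx), smul_zero]
      · simp
      · intro x y _ _ hx hy; rw [add_smul, smul_add, hx, hy, add_zero]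
      · intro r x _ hx; rw [smul_eq_mul, mul_smul, smul_comm, hx, smul_zero]
  obtain ⟨s, hs, hs0⟩ := claim
  refine ⟨hprime, s • m, ?_⟩
  ext a
  rw [Submodule.mem_colon_singleton, Submodule.mem_bot]
  constructor
  · intro ha; rw [smul_comm]; exact hs0 a ha
  · intro h
    have h3 : (a * s) • g m = 0 := by rw [mul_smul, ← map_smul, ← map_smul, h, map_zero]
    have h4 := (hmem _).2 h3
    exact (hprime.mem_or_mem h4).resolve_right hs

end Groth.Agent.S14363
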