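import Groth.Statements.S14458
import Mathlib
-- import your own Groth.Agent.* helpers here

set_option autoImplicit false
universe u
open CAlg

namespace Groth.Agent.S14458

open TensorProduct in
/-- Let R be an Artinian local ring with residue field k and M an R-module, not necessarily finitely
generated. If M ⊗_R k = 0 then M = 0. -/
theorem result {R : Type u} [CommRing R]
    [IsArtinianRing R] [IsLocalRing R] (M : Type u) [AddCommGroup M] [Module R M]
    (h : Subsingleton ((IsLocalRing.ResidueField R) ⊗[R] M)) : Subsingleton M := by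
  have hnil := IsArtinianRing.isNilpotent_jacobson_bot (R := R)
  rw [IsLocalRing.jacobson_eq_maximalIdeal ⊥ bot_ne_top] at hnil
  obtain ⟨n, hn⟩ := hnil
  have htop : (IsLocalRing.maximalIdeal R) • (⊤ : Submodule R M) = ⊤ := by
    rw [← Submodule.Quotient.subsingleton_iff]
    haveI : Subsingleton ((R ⧸ IsLocalRing.maximalIdeal R) ⊗[R] M) := h
    exact (TensorProduct.quotTensorEquivQuotSMul M (IsLocalRing.maximalIdeal R)).symm.toEquiv.subsingleton
  have hk : ∀ k : ℕ, (IsLocalRing.maximalIdeal R) ^ k • (⊤ : Submodule R M) = ⊤ := by
    intro k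
    induction k with
    | zero => simp
    | succ k ih => rw [pow_succ, Submodule.mul_smul, htop, ih]
  have := hk n
  rw [hn] at this
  have h0 : (⊥ : Submodule R M) = ⊤ := by
    rw [← this]; simp
  exact (Submodule.subsingleton_iff R).mp ⟨fun a b => by
    have : ∀ S : Submodule R M, S = ⊤ := fun S => top_le_iff.mp (h0 ▸ bot_le)
    rw [this a, this b]⟩

end Groth.Agent.S14458
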