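import Groth.Statements.S15737
import Mathlib
-- import your own Groth.Agent.* helpers here

set_option autoImplicit false
open W4c2invhilbsl2

namespace Groth.Agent.S15737

/-- For a monomial X₀^d₀X₁^d₁X₂^d₂ of the polynomial ring in X₀, X₁, X₂ (X₂ standing for Xⱼ, j = 3 or 4,
of the five-variable ring) put n = d₀ − p·d₁ + q·d₂ (its weight for the torus diag(t, t^(−p), t^q)),
c = d₁ − d₂ and ω = p·d₁ − q·d₂, so that d₀ = n + ω; here 0 < p < q are coprime integers. Then n + ω
< q − p, that is d₀ < q − p, holds if and only if ω is the least value of ω among all monomials with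
the same pair (n, c). -/
theorem result (p q : ℕ) (hp : 0 < p) (hpq : p < q) (hcop : Nat.Coprime p q) (d0 d1 d2 : ℕ) :
    d0 < q - p ↔
      ∀ e0 e1 e2 : ℕ, (e0 : ℤ) - (p : ℤ) * e1 + (q : ℤ) * e2 = (d0 : ℤ) - (p : ℤ) * d1 + (q : ℤ) * d2 → (e1 : ℤ) - e2 = (d1 : ℤ) - d2 →
        (p : ℤ) * d1 - (q : ℤ) * d2 ≤ (p : ℤ) * e1 - (q : ℤ) * e2 := by
  constructor
  · intro h e0 e1 e2 h1 h2
    have h' : (d0 : ℤ) + p < q := by omega
    by_contra hcon
    push Not at hcon
    obtain ⟨t, ht⟩ : ∃ t : ℤ, (e1 : ℤ) = d1 + t := ⟨e1 - d1, by ring⟩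
    have ht2 : (e2 : ℤ) = d2 + t := by linarith
    rw [ht, ht2] at hcon h1
    have hqp : (0 : ℤ) < q - p := by omega
    have h3 : 0 < ((q : ℤ) - p) * t := by nlinarith
    have h4 : 0 < t := by
      by_contra h5
      push Not at h5
      nlinarith
    have h5 : ((q : ℤ) - p) * 1 ≤ ((q : ℤ) - p) * t := mul_le_mul_of_nonneg_left (by omega) hqp.le
    have h6 : (0 : ℤ) ≤ e0 := by positivity
    nlinarith
  · intro h
    by_contra hcon
    push Not at hcon
    have := h (d0 - (q - p)) (d1 + 1) (d2 + 1) (by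
      have : ((d0 - (q - p) : ℕ) : ℤ) = (d0 : ℤ) - (q - p) := by omega
      rw [this]; push_cast; ring) (by push_cast; ring)
    push_cast at this
    have hqp : (p : ℤ) < q := by omega
    linarith

end Groth.Agent.S15737
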