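import Groth.Statements.S15740
import Mathlib
-- import your own Groth.Agent.* helpers here

set_option autoImplicit false
open W4c2invhilbsl2

namespace Groth.Agent.S15740

/-- For a monomial X₀^d₀X₁^d₁X₂^d₂ of the polynomial ring in X₀, X₁, X₂ (X₂ standing for Xⱼ, j = 3 or 4,
of the five-variable ring) put n = d₀ − p·d₁ + q·d₂ (its weight for the torus diag(t, t^(−p), t^q)),
c = d₁ − d₂ and ω = p·d₁ − q·d₂, so that d₀ = n + ω; here 0 < p < q are coprime integers. Suppose n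
≥ 0, c > 0 and d₀ < q − p (the last condition says that ω is the least value of ω for the pair (n,
c)). Then ω ≥ 0 if and only if the remainder of p·c on division by q − p, plus n, is less than q −
p. -/
theorem result (p q : ℕ) (hp : 0 < p) (hpq : p < q) (hcop : Nat.Coprime p q) (d0 d1 d2 : ℕ)
    (hn : 0 ≤ (d0 : ℤ) - (p : ℤ) * d1 + (q : ℤ) * d2) (hc : (d2 : ℤ) < d1) (hd0 : d0 < q - p) :
    0 ≤ (p : ℤ) * d1 - (q : ℤ) * d2 ↔
      Int.emod ((p : ℤ) * ((d1 : ℤ) - d2)) ((q : ℤ) - p) + ((d0 : ℤ) - (p : ℤ) * d1 + (q : ℤ) * d2) < (q : ℤ) - p := by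
  have hs : (0 : ℤ) < (q : ℤ) - p := by omega
  have hd0' : (d0 : ℤ) < (q : ℤ) - p := by omega
  obtain ⟨ω, hω⟩ : ∃ ω : ℤ, ω = (p : ℤ) * d1 - (q : ℤ) * d2 := ⟨_, rfl⟩
  obtain ⟨s, hsd⟩ : ∃ s : ℤ, s = (q : ℤ) - p := ⟨_, rfl⟩
  have e1 : (p : ℤ) * ((d1 : ℤ) - d2) = ω + s * d2 := by rw [hω, hsd]; ring
  have e2 : (d0 : ℤ) - (p : ℤ) * d1 + (q : ℤ) * d2 = d0 - ω := by rw [hω]; ring
  have hs' : 0 < s := by rw [hsd]; exact hs
  have hd0'' : (d0 : ℤ) < s := by rw [hsd]; exact hd0'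
  have hn' : 0 ≤ (d0 : ℤ) - ω := by rw [← e2]; exact hn
  rw [e1, e2, ← hω, ← hsd]
  have e3 : Int.emod (ω + s * d2) s = ω % s := Int.add_mul_emod_self_left ω s d2
  rw [e3]
  constructor
  · intro h
    rw [Int.emod_eq_of_lt h (by linarith)]
    linarith
  · intro h
    by_contra hcon
    push Not at hcon
    have h1 : ω / s < 0 := Int.ediv_neg_of_neg_of_pos hcon hs'
    have h2 : ω % s = ω - s * (ω / s) := Int.emod_def ω s
    have h3 : s * (ω / s) ≤ s * (-1) := mul_le_mul_of_nonneg_left (by omega) hs'.le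
    have h4 : (0 : ℤ) ≤ d0 := by positivity
    linarith

end Groth.Agent.S15740
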