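import Groth.Statements.S17333
import Mathlib.Tactic

set_option autoImplicit false
universe u v w
open CAlg

namespace Groth.Agent.S17333

/-- Let k be a field and A = B × C a decomposable commutative k-algebra. Then the natural map Der(B) ×
Der(C) → Der(A) is bijective: every k-derivation D : A → A is (b, c) ↦ (D₁ b, D₂ c) for a unique
pair of k-derivations D₁ : B → B, D₂ : C → C. Compatibility with brackets is not stated. (The
published statement takes k algebraically closed; this row takes any field.) -/
theorem result (k : Type u) [Field k] (B : Type v) [CommRing B] [Algebra k B]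
    (C : Type w) [CommRing C] [Algebra k C] (D : Derivation k (B × C) (B × C)) :
    ∃! P : Derivation k B B × Derivation k C C, ∀ (b : B) (c : C), D (b, c) = (P.1 b, P.2 c) := by
  have he : D ((1 : B), (0 : C)) = 0 := by
    have h1 : D (((1 : B), (0 : C)) * ((1 : B), (0 : C))) = ((1 : B), (0 : C)) • D ((1 : B), (0 : C)) + ((1 : B), (0 : C)) • D ((1 : B), (0 : C)) := D.leibniz _ _
    have h2 : (((1 : B), (0 : C)) * ((1 : B), (0 : C))) = ((1 : B), (0 : C)) := by simp
    rw [h2] at h1
    have h3 := congrArg Prod.fst h1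
    have h4 := congrArg Prod.snd h1
    simp only [smul_eq_mul, Prod.fst_add, Prod.snd_add, Prod.fst_mul, Prod.snd_mul, one_mul, zero_mul, add_zero] at h3 h4
    have h5 : (D ((1 : B), (0 : C))).1 = 0 := by
      have := h3
      exact (left_eq_add.1 this)
    exact Prod.ext h5 h4
  have he' : D ((0 : B), (1 : C)) = 0 := by
    have h1 : D (((1 : B), (0 : C)) + ((0 : B), (1 : C))) = D ((1 : B), (0 : C)) + D ((0 : B), (1 : C)) := map_add D _ _
    have h2 : (((1 : B), (0 : C)) + ((0 : B), (1 : C))) = 1 := by simp [Prod.ext_iff]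
    rw [h2, he, zero_add, Derivation.map_one_eq_zero] at h1
    exact h1.symm
  have hb : ∀ (b : B) (c : C), D (b, 0) = ((D (b, c)).1, 0) := by
    intro b c
    have h1 : D (((1 : B), (0 : C)) * (b, c)) = ((1 : B), (0 : C)) • D (b, c) + (b, c) • D ((1 : B), (0 : C)) := D.leibniz _ _
    have h2 : (((1 : B), (0 : C)) * (b, c)) = (b, 0) := by simp
    rw [h2, he, smul_zero, add_zero] at h1
    rw [h1]
    simp [Prod.ext_iff]
  have hc : ∀ (b : B) (c : C), D (0, c) = (0, (D (b, c)).2) := by
    intro b c
    have h1 : D (((0 : B), (1 : C)) * (b, c)) = ((0 : B), (1 : C)) • D (b, c) + (b, c) • D ((0 : B), (1 : C)) := D.leibniz _ _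
    have h2 : (((0 : B), (1 : C)) * (b, c)) = (0, c) := by simp
    rw [h2, he', smul_zero, add_zero] at h1
    rw [h1]
    simp [Prod.ext_iff]
  let P1 : Derivation k B B := Derivation.mk' ((LinearMap.fst k B C).comp (D.toLinearMap.comp (LinearMap.inl k B C))) (by
    intro a b
    have h1 : D ((a, (0 : C)) * (b, (0 : C))) = (a, (0 : C)) • D (b, (0 : C)) + (b, (0 : C)) • D (a, (0 : C)) := D.leibniz _ _
    have h2 : ((a, (0 : C)) * (b, (0 : C))) = (a * b, 0) := by simp
    rw [h2] at h1
    have h3 := congrArg Prod.fst h1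
    simpa using h3)
  let P2 : Derivation k C C := Derivation.mk' ((LinearMap.snd k B C).comp (D.toLinearMap.comp (LinearMap.inr k B C))) (by
    intro a b
    have h1 : D (((0 : B), a) * ((0 : B), b)) = ((0 : B), a) • D ((0 : B), b) + ((0 : B), b) • D ((0 : B), a) := D.leibniz _ _
    have h2 : (((0 : B), a) * ((0 : B), b)) = (0, a * b) := by simp
    rw [h2] at h1
    have h3 := congrArg Prod.snd h1
    simpa using h3)
  refine ⟨(P1, P2), ?_, ?_⟩
  · intro b c
    have h1 : P1 b = (D (b, 0)).1 := rfl
    have h2 : P2 c = (D (0, c)).2 := rfl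
    show D (b, c) = (P1 b, P2 c)
    rw [h1, h2, hb b c, hc b c]
  · rintro ⟨Q1, Q2⟩ hQ
    have h1 : Q1 = P1 := by
      ext b
      have := congrArg Prod.fst (hQ b 0)
      exact this.symm
    have h2 : Q2 = P2 := by
      ext c
      have := congrArg Prod.snd (hQ 0 c)
      exact this.symm
    rw [h1, h2]

end Groth.Agent.S17333
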