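import Groth.Statements.S17334
import Mathlib.Tactic
import Mathlib.RingTheory.Artinian.Ring
import Mathlib.RingTheory.Nilpotent.Basic

set_option autoImplicit false
universe u v
open CAlg

namespace Groth.Agent.S17334

/-- Let k be a field and A a nonzero commutative k-algebra which is finite-dimensional as a k-vector
space. Then A is indecomposable (no decomposition as a product of two nonzero rings, i.e. no
idempotent other than 0 and 1) if and only if A is a local ring. (In the source k is algebraically
closed and the lemma adds that the maximal ideal is then the nilradical, is nilpotent, and has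
residue field k; the equivalence itself uses only that k is a field, and the zero algebra is
excluded here explicitly.) -/
theorem result (k : Type u) [Field k]
    (A : Type v) [CommRing A] [Algebra k A] [Module.Finite k A] [Nontrivial A] :
    (∀ e : A, IsIdempotentElem e → e = 0 ∨ e = 1) ↔ IsLocalRing A := by
  have hart : IsArtinianRing A := IsArtinianRing.of_finite k A
  constructor
  · intro H
    apply IsLocalRing.of_isUnit_or_isUnit_one_sub_self
    intro a
    obtain ⟨n, y, hy⟩ := IsArtinian.exists_pow_succ_smul_dvd a (1 : A)
    simp only [smul_eq_mul, mul_one] at hy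
    have h1 : ∀ j : ℕ, a ^ (n + j) * y ^ j = a ^ n := by
      intro j
      induction j with
      | zero => simp
      | succ j ih =>
        have h2 : a ^ (n + (j + 1)) * y ^ (j + 1) = a ^ j * y ^ j * (a ^ (n + 1) * y) := by ring
        rw [h2, hy, show a ^ j * y ^ j * a ^ n = a ^ (n + j) * y ^ j by ring, ih]
    have h3 := h1 n
    have hidem : IsIdempotentElem (a ^ n * y ^ n) := by
      show a ^ n * y ^ n * (a ^ n * y ^ n) = a ^ n * y ^ n
      have h4 : a ^ n * y ^ n * (a ^ n * y ^ n) = (a ^ (n + n) * y ^ n) * y ^ n := by ring
      rw [h4, h3]
    rcases H _ hidem with h0 | h1'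
    · right
      have hnil : IsNilpotent a := by
        refine ⟨n, ?_⟩
        rw [← h3]
        have h5 : a ^ (n + n) * y ^ n = a ^ n * (a ^ n * y ^ n) := by ring
        rw [h5, h0, mul_zero]
      exact hnil.isUnit_one_sub
    · left
      rcases Nat.eq_zero_or_pos n with hn | hn
      · subst hn
        simp only [zero_add, pow_one, pow_zero] at hy
        exact IsUnit.of_mul_eq_one y hy
      · have h6 : IsUnit (a ^ n) := IsUnit.of_mul_eq_one _ h1'
        exact (isUnit_pow_iff hn.ne').1 h6
  · intro hloc e he
    rcases IsLocalRing.isUnit_or_isUnit_one_sub_self e with h | h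
    · right
      have h1 : e * e = e * 1 := by rw [mul_one]; exact he
      exact h.mul_left_cancel h1
    · left
      have h1 : (1 - e) * e = (1 - e) * 0 := by
        have h2 : e * e = e := he
        rw [mul_zero, sub_mul, one_mul, h2, sub_self]
      exact h.mul_left_cancel h1

end Groth.Agent.S17334
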