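import Groth.Statements.S17538
import Mathlib.Tactic

set_option autoImplicit false
universe u v
open CAlg

namespace Groth.Agent.S17538

/-- For a commutative ring A, an ideal I and an A-module M, the canonical map from the I-adic completion
M^ to the I-adic completion of M^ admits an A-linear retraction (it is a split injection). (That M^
is I-adically separated is standard.) -/
theorem result {A : Type u} [CommRing A] (I : Ideal A)
    (M : Type v) [AddCommGroup M] [Module A M] :
    ∃ ψ : AdicCompletion I (AdicCompletion I M) →ₗ[A] AdicCompletion I M,
      ψ ∘ₗ AdicCompletion.of I (AdicCompletion I M) = LinearMap.id := by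
  have hk : ∀ n : ℕ, (I ^ n • ⊤ : Submodule A (AdicCompletion I M)) ≤ LinearMap.ker (AdicCompletion.eval I M n) := by
    intro n
    refine Submodule.smul_le.2 (fun r hr y _ => ?_)
    rw [LinearMap.mem_ker, map_smul]
    obtain ⟨m, hm⟩ := Submodule.mkQ_surjective _ (AdicCompletion.eval I M n y)
    rw [← hm, ← map_smul, Submodule.mkQ_apply, Submodule.Quotient.mk_eq_zero]
    exact Submodule.smul_mem_smul hr Submodule.mem_top
  refine ⟨AdicCompletion.lift I (fun n => (Submodule.liftQ _ (AdicCompletion.eval I M n) (hk n)).comp (AdicCompletion.eval I (AdicCompletion I M) n)) ?_, ?_⟩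
  · intro m n hle
    ext x
    simp only [LinearMap.comp_apply]
    obtain ⟨y, hy⟩ := Submodule.mkQ_surjective _ (AdicCompletion.eval I (AdicCompletion I M) n x)
    have h1 : AdicCompletion.eval I (AdicCompletion I M) m x = Submodule.mkQ _ y := by
      have h2 := AdicCompletion.transitionMap_comp_eval_apply (I := I) (M := AdicCompletion I M) hle x
      have h3 : x.val n = Submodule.mkQ _ y := hy.symm
      rw [h3] at h2
      exact h2.symm
    rw [h1, ← hy]
    simp only [Submodule.mkQ_apply, Submodule.liftQ_apply]
    exact AdicCompletion.transitionMap_comp_eval_apply (I := I) (M := M) hle y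
  · ext y n
    simp only [LinearMap.comp_apply, LinearMap.id_apply, AdicCompletion.eval_lift_apply, AdicCompletion.eval_of, Submodule.mkQ_apply, Submodule.liftQ_apply]
    rfl

end Groth.Agent.S17538
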