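import Groth.Statements.S17764
import Mathlib.Tactic
import Mathlib.Algebra.Module.Injective

set_option autoImplicit false
universe u
open InjHull

namespace Groth.Agent.S17764

/-- Let R be a commutative ring and M an R-module which is torsion-free (no nonzero element of R kills a
nonzero element of M) and divisible (multiplication by every nonzero element of R is surjective on
M). Then M is an injective R-module. (Over a ring with zero divisors the two hypotheses force M =
0.) -/
theorem result (R : Type u) [CommRing R] (M : Type u) [AddCommGroup M] [Module R M] [NoZeroSMulDivisors R M] (hdiv : ∀ r : R, r ≠ 0 → Function.Surjective (fun m : M => r • m)) : Module.Injective R M := by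
  apply Module.Baer.injective
  intro I g
  by_cases hI : ∃ r : R, r ∈ I ∧ r ≠ 0
  · obtain ⟨r, hrI, hr0⟩ := hI
    obtain ⟨m, hm⟩ := hdiv r hr0 (g ⟨r, hrI⟩)
    refine ⟨LinearMap.toSpanSingleton R M m, ?_⟩
    intro x hx
    rw [LinearMap.toSpanSingleton_apply]
    have h1 : r • (x • m) = r • g ⟨x, hx⟩ := by
      have hm' : r • m = g ⟨r, hrI⟩ := hm
      rw [smul_comm, hm', ← map_smul, ← map_smul]
      congr 1
      apply Subtype.ext
      simp [mul_comm]
    have h2 : r • (x • m - g ⟨x, hx⟩) = 0 := by rw [smul_sub, h1, sub_self]
    rcases NoZeroSMulDivisors.eq_zero_or_eq_zero_of_smul_eq_zero h2 with h3 | h3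
    · exact absurd h3 hr0
    · exact sub_eq_zero.1 h3
  · refine ⟨0, ?_⟩
    intro x hx
    have hx0 : x = 0 := by
      by_contra hc
      exact hI ⟨x, hx, hc⟩
    subst hx0
    have : (⟨0, hx⟩ : I) = 0 := rfl
    rw [this, map_zero, map_zero]

end Groth.Agent.S17764
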