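import Groth.Statements.S17981
import Mathlib.Tactic
import Mathlib.RingTheory.Ideal.GoingUp
import Mathlib.RingTheory.IntegralClosure.IsIntegralClosure.Basic

set_option autoImplicit false
universe u
open Hensel

namespace Groth.Agent.S17981

/-- Let A be a commutative ring, I an ideal contained in the Jacobson radical of A, and B a commutative
A-algebra which is finitely generated as an A-module. Then two idempotents of B with the same image
in B/IB are equal. -/
theorem result (A : Type u) [CommRing A] (I : Ideal A)
    (hI : I ≤ Ideal.jacobson ⊥) (B : Type u) [CommRing B] [Algebra A B] [Module.Finite A B] :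
    Set.InjOn (Ideal.Quotient.mk (Ideal.map (algebraMap A B) I)) {e : B | IsIdempotentElem e} := by
  have hint : Algebra.IsIntegral A B := inferInstance
  have hmap : Ideal.map (algebraMap A B) I ≤ Ideal.jacobson ⊥ := by
    rw [Ideal.map_le_iff_le_comap]
    intro a ha
    rw [Ideal.mem_comap, Ideal.jacobson, Ideal.mem_sInf]
    rintro M ⟨_, hM⟩
    have hmax : (M.comap (algebraMap A B)).IsMaximal := Ideal.isMaximal_comap_of_isIntegral_of_isMaximal M
    have h0 := hI ha
    rw [Ideal.jacobson, Ideal.mem_sInf] at h0
    exact h0 ⟨bot_le, hmax⟩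
  intro e he e' he' h
  have hd : e - e' ∈ Ideal.map (algebraMap A B) I := by
    rw [← Ideal.Quotient.eq]; exact h
  have hj := hmap hd
  have he1 : e * e = e := he
  have he2 : e' * e' = e' := he'
  have h3 : (e - e') * (1 - (e - e') * (e - e')) = 0 := by
    have h4 : (e - e') * (1 - (e - e') * (e - e')) = (e - e') - ((e*e)*e - 3 * (e*e) * e' + 3 * e * (e'*e') - (e'*e')*e') := by ring
    rw [h4, he1, he1, he2, he2]; ring
  have hu : IsUnit (1 - (e - e') * (e - e')) := by
    have h5 := (Ideal.mem_jacobson_bot.1 hj) (-(e - e'))
    convert h5 using 1; ring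
  have h6 := (hu.mul_left_eq_zero).1 h3
  exact sub_eq_zero.1 h6

end Groth.Agent.S17981
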