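import Groth.Statements.S18387
import Mathlib.Tactic
import Mathlib.RingTheory.Artinian.Ring
import Mathlib.LinearAlgebra.FiniteDimensional.Lemmas

set_option autoImplicit false
universe u
open LVCorr

namespace Groth.Agent.S18387

/-- In the affine form which its proof establishes. Let A be a commutative algebra over a field F which
is finite-dimensional of dimension d over F. Then the d-th power of the nilradical of A vanishes.
(Applied to the fibre algebra A = B/mB of a quasi-finite morphism over a closed point with maximal
ideal m, this says that the d-th power of the radical of mB lies in mB, i.e. the ramification of the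
morphism at that point is at most the degree d of the fibre.) -/
theorem result (F A : Type u) [Field F] [CommRing A] [Algebra F A]
    [FiniteDimensional F A] : nilradical A ^ Module.finrank F A = ⊥ := by
  haveI : IsArtinianRing A := IsArtinianRing.of_finite F A
  have hnil : IsNilpotent (nilradical A) := IsArtinianRing.isNilpotent_nilradical
  have key : ∀ i : ℕ, nilradical A ^ i = ⊥ ∨ Module.finrank F ((nilradical A ^ i).restrictScalars F) + i ≤ Module.finrank F A := by
    intro i
    induction i with
    | zero =>
      right
      simpa using Submodule.finrank_le _
    | succ i ih =>
      by_cases h0 : nilradical A ^ (i+1) = ⊥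
      · left; exact h0
      right
      rcases ih with ih | ih
      · exfalso; apply h0; rw [pow_succ, ih]; simp
      have hlt : nilradical A ^ (i+1) < nilradical A ^ i := by
        refine lt_of_le_of_ne (Ideal.pow_le_pow_right (Nat.le_succ i)) ?_
        intro heq
        obtain ⟨m, hm⟩ := hnil
        have h1 : ∀ j : ℕ, nilradical A ^ (i+j) = nilradical A ^ i := by
          intro j
          induction j with
          | zero => rfl
          | succ j ihj => rw [← add_assoc, pow_succ, ihj, ← pow_succ, heq]
        apply h0
        rw [heq, ← h1 m, pow_add, hm]; simp
      have h2 := Submodule.finrank_lt_finrank_of_lt (show (nilradical A ^ (i+1)).restrictScalars F < (nilradical A ^ i).restrictScalars F from hlt)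
      omega
  rcases key (Module.finrank F A) with h | h
  · exact h
  · have h3 : Module.finrank F ((nilradical A ^ Module.finrank F A).restrictScalars F) = 0 := by omega
    rw [Submodule.finrank_eq_zero] at h3
    exact (Submodule.restrictScalars_eq_bot_iff F A A).1 h3

end Groth.Agent.S18387
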