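import Groth.Statements.S18936
import Mathlib

set_option autoImplicit false
universe u
open CAlg

namespace Groth.Agent.S18936

/-- Let A be a Noetherian commutative ring, q a prime ideal of A and f an element of A whose image in
the localization A_q is a non-zero-divisor. Then there is an element b of A not in q such that the
image of f in A[1/b] is a non-zero-divisor. -/
theorem result {A : Type u} [CommRing A] [IsNoetherianRing A]
    (q : Ideal A) [q.IsPrime] (f : A)
    (hf : algebraMap A (Localization.AtPrime q) f ∈ nonZeroDivisors (Localization.AtPrime q)) :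
    ∃ b : A, b ∉ q ∧ algebraMap A (Localization.Away b) f ∈ nonZeroDivisors (Localization.Away b) := by
  classical
  set K : Ideal A := (Ideal.span {f}).annihilator with hK
  have hKmem : ∀ x, x ∈ K ↔ x * f = 0 := by
    intro x
    rw [hK, Submodule.mem_annihilator_span_singleton, smul_eq_mul]
  let p : PrimeSpectrum A := ⟨q, inferInstance⟩
  have hsupp : p ∉ Module.support A K := by
    rw [Module.notMem_support_iff']
    rintro ⟨x, hx⟩
    have h0 : algebraMap A (Localization.AtPrime q) x = 0 := by
      apply (mem_nonZeroDivisors_iff_right.mp hf)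
      rw [← map_mul, (hKmem x).mp hx, map_zero]
    obtain ⟨m, hm⟩ := (IsLocalization.map_eq_zero_iff q.primeCompl (Localization.AtPrime q) x).mp h0
    exact ⟨m, m.2, Subtype.ext (by simpa using hm)⟩
  rw [Module.mem_support_iff_of_finite] at hsupp
  obtain ⟨b, hbann, hbq⟩ := SetLike.not_le_iff_exists.mp hsupp
  refine ⟨b, hbq, ?_⟩
  have hbK : ∀ x ∈ K, b * x = 0 := by
    intro x hx
    have := Module.mem_annihilator.mp hbann ⟨x, hx⟩
    simpa using congrArg Subtype.val this
  rw [mem_nonZeroDivisors_iff_right]
  intro z hz
  obtain ⟨⟨a, s⟩, hzs⟩ := IsLocalization.surj (Submonoid.powers b) z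
  have h1 : algebraMap A (Localization.Away b) (a * f) = 0 := by
    rw [map_mul, ← hzs]
    calc z * algebraMap A _ s * algebraMap A _ f = (z * algebraMap A _ f) * algebraMap A _ s := by ring
      _ = 0 := by rw [hz, zero_mul]
  obtain ⟨m, hm⟩ := (IsLocalization.map_eq_zero_iff (Submonoid.powers b) (Localization.Away b) (a * f)).mp h1
  have h2 : (m : A) * a ∈ K := by rw [hKmem]; rw [mul_assoc]; exact hm
  have h3 := hbK _ h2
  have h4 : algebraMap A (Localization.Away b) a = 0 := by
    rw [IsLocalization.map_eq_zero_iff (Submonoid.powers b)]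
    exact ⟨⟨b, Submonoid.mem_powers b⟩ * m, by simpa [mul_assoc] using h3⟩
  rw [h4] at hzs
  exact (IsLocalization.map_units (Localization.Away b) s).mul_left_eq_zero.mp hzs

end Groth.Agent.S18936
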