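import Groth.Statements.S19160
import Mathlib.Algebra.TrivSqZeroExt.Basic
import Mathlib.LinearAlgebra.TensorProduct.Tower
import Mathlib.RingTheory.TensorProduct.Basic

set_option autoImplicit false
open scoped TensorProduct
universe u
open PureMod

namespace Groth.Agent.S19160

/-- (2) ⇒ (3): in affine form, let R be a commutative ring and i : A → B an R-linear map such that for
every commutative R-algebra R' the base change R' ⊗ A → R' ⊗ B is injective (the pull-back of i to
every affine scheme over Spec R is a monomorphism). Then F ⊗ A → F ⊗ B is injective for every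
R-module F, i.e. i is universally injective (pure). (Modules and algebras are taken in the universe
of R.) -/
theorem result (R : Type u) [CommRing R]
    (A B : Type u) [AddCommGroup A] [Module R A] [AddCommGroup B] [Module R B] (i : A →ₗ[R] B)
    (h : ∀ (R' : Type u) [CommRing R'] [Algebra R R'], Function.Injective (i.baseChange R'))
    (F : Type u) [AddCommGroup F] [Module R F] :
    Function.Injective (i.lTensor F) := by
  letI : Module Rᵐᵒᵖ F := Module.compHom F ((RingHom.id R).fromOpposite fun _ _ => mul_comm _ _)
  haveI : IsCentralScalar R F := ⟨fun r m => rfl⟩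
  intro x y hxy
  have hinj := h (TrivSqZeroExt R F)
  have hinj' : Function.Injective (i.lTensor (TrivSqZeroExt R F)) := by
    rw [← LinearMap.baseChange_eq_ltensor]; exact hinj
  have hs : (TrivSqZeroExt.sndHom R F) ∘ₗ (TrivSqZeroExt.inrHom R F) = LinearMap.id := by ext; simp
  have h1 : (i.lTensor (TrivSqZeroExt R F)) ((TrivSqZeroExt.inrHom R F).rTensor A x) = (i.lTensor (TrivSqZeroExt R F)) ((TrivSqZeroExt.inrHom R F).rTensor A y) := by
    have : ∀ z, (i.lTensor (TrivSqZeroExt R F)) ((TrivSqZeroExt.inrHom R F).rTensor A z) = (TrivSqZeroExt.inrHom R F).rTensor B (i.lTensor F z) := by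
      intro z
      rw [← LinearMap.comp_apply, ← LinearMap.comp_apply, LinearMap.lTensor_comp_rTensor, LinearMap.rTensor_comp_lTensor]
    rw [this, this, hxy]
  have h2 := hinj' h1
  have h3 := congrArg ((TrivSqZeroExt.sndHom R F).rTensor A) h2
  rw [← LinearMap.comp_apply, ← LinearMap.comp_apply, ← LinearMap.rTensor_comp, hs, LinearMap.rTensor_id] at h3
  exact h3

end Groth.Agent.S19160
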