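import Groth.Statements.S5210
import Mathlib

set_option autoImplicit false
open CategoryTheory CategoryTheory.Limits
universe w v₁ u₁
open DescCat

namespace Groth.Agent.S5210

/-- In a category with pullbacks, let `f : S' ⟶ S` be a universal effective epimorphism (all of its base
changes are effective epimorphisms) and `Y ⟶ S` a monomorphism. Then an object `X` over `S` admits a
morphism to `Y` over `S` if and only if it does so after base change along `f`. -/
theorem result {C : Type u₁} [Category.{v₁} C] [HasPullbacks C]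
    {S' S : C} (f : S' ⟶ S) (hf : (MorphismProperty.universally (fun (A B : C) (p : A ⟶ B) => EffectiveEpi p)) f) (X Y : Over S) [Mono Y.hom] :
    Nonempty (X ⟶ Y) ↔ Nonempty ((Over.pullback f).obj X ⟶ (Over.pullback f).obj Y) := by
  constructor
  · rintro ⟨g⟩; exact ⟨(Over.pullback f).map g⟩
  · rintro ⟨h⟩
    have : EffectiveEpi (pullback.fst X.hom f) := hf _ _ _ (IsPullback.of_hasPullback X.hom f)
    obtain ⟨φ, hφdef⟩ : ∃ φ : pullback X.hom f ⟶ Y.left, φ = h.left ≫ pullback.fst Y.hom f := ⟨_, rfl⟩
    have hw : h.left ≫ pullback.snd Y.hom f = pullback.snd X.hom f := Over.w h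
    have hφ : φ ≫ Y.hom = pullback.fst X.hom f ≫ X.hom := by
      simp only [hφdef, Category.assoc, pullback.condition]
      rw [← Category.assoc, hw]
    let d := EffectiveEpi.desc (pullback.fst X.hom f) φ (by
      intro Z g₁ g₂ hg
      have e1 : (g₁ ≫ φ) ≫ Y.hom = (g₂ ≫ φ) ≫ Y.hom := by
        rw [Category.assoc g₁ φ Y.hom, Category.assoc g₂ φ Y.hom, hφ, ← Category.assoc, ← Category.assoc, hg]
      exact (cancel_mono Y.hom).mp e1)
    have hd : pullback.fst X.hom f ≫ d = φ := EffectiveEpi.fac _ _ _
    refine ⟨Over.homMk d ?_⟩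
    rw [← cancel_epi (pullback.fst X.hom f), ← Category.assoc, hd, hφ]

end Groth.Agent.S5210
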