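import Groth.Statements.S5211
import Mathlib

set_option autoImplicit false
open CategoryTheory CategoryTheory.Limits
universe w v₁ u₁
open DescCat

namespace Groth.Agent.S5211

/-- In a category with pullbacks: if `f : S' ⟶ S` is a universal effective epimorphism and the canonical
map `S' ×_S S' ⟶ S' ×_T S'` induced by `g : S ⟶ T` is an isomorphism, then `g` is a monomorphism. -/
theorem result {C : Type u₁} [Category.{v₁} C] [HasPullbacks C]
    {S' S T : C} (f : S' ⟶ S) (hf : (MorphismProperty.universally (fun (A B : C) (p : A ⟶ B) => EffectiveEpi p)) f) (g : S ⟶ T)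
    [IsIso (pullback.mapDesc f f g)] : Mono g := by
  constructor
  intro Z a b hab
  have e1 : EffectiveEpi (pullback.fst a f) := hf _ _ _ (IsPullback.of_hasPullback a f)
  have e2 : EffectiveEpi (pullback.fst (pullback.fst a f ≫ b) f) := hf _ _ _ (IsPullback.of_hasPullback _ f)
  have ha : (pullback.fst (pullback.fst a f ≫ b) f ≫ pullback.snd a f) ≫ f =
      pullback.fst (pullback.fst a f ≫ b) f ≫ pullback.fst a f ≫ a := by
    rw [Category.assoc, pullback.condition]
  have hb : pullback.snd (pullback.fst a f ≫ b) f ≫ f =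
      pullback.fst (pullback.fst a f ≫ b) f ≫ pullback.fst a f ≫ b := by
    rw [← pullback.condition]
  have hc : (pullback.fst (pullback.fst a f ≫ b) f ≫ pullback.snd a f) ≫ f ≫ g =
      pullback.snd (pullback.fst a f ≫ b) f ≫ f ≫ g := by
    rw [← Category.assoc, ha, ← Category.assoc (pullback.snd (pullback.fst a f ≫ b) f), hb]
    simp only [Category.assoc, hab]
  have m1 : pullback.mapDesc f f g ≫ pullback.fst (f ≫ g) (f ≫ g) = pullback.fst f f := by
    simp [pullback.mapDesc, pullback.map]
    exact pullback.lift_fst _ _ _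
  have m2 : pullback.mapDesc f f g ≫ pullback.snd (f ≫ g) (f ≫ g) = pullback.snd f f := by
    simp [pullback.mapDesc, pullback.map]
    exact pullback.lift_snd _ _ _
  have hw1 : (pullback.lift _ _ hc ≫ inv (pullback.mapDesc f f g)) ≫ pullback.fst f f =
      pullback.fst (pullback.fst a f ≫ b) f ≫ pullback.snd a f := by
    rw [← m1]; simp
    exact pullback.lift_fst _ _ _
  have hw2 : (pullback.lift _ _ hc ≫ inv (pullback.mapDesc f f g)) ≫ pullback.snd f f =
      pullback.snd (pullback.fst a f ≫ b) f := by
    rw [← m2]; simp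
    exact pullback.lift_snd _ _ _
  have key : (pullback.fst (pullback.fst a f ≫ b) f ≫ pullback.snd a f) ≫ f =
      pullback.snd (pullback.fst a f ≫ b) f ≫ f := by
    calc _ = ((pullback.lift _ _ hc ≫ inv (pullback.mapDesc f f g)) ≫ pullback.fst f f) ≫ f := by rw [hw1]
      _ = ((pullback.lift _ _ hc ≫ inv (pullback.mapDesc f f g)) ≫ pullback.snd f f) ≫ f := by
            rw [Category.assoc _ (pullback.fst f f) f, Category.assoc _ (pullback.snd f f) f, pullback.condition]
      _ = _ := by rw [hw2]
  rw [ha, hb] at key
  have k2 := (cancel_epi _).mp key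
  exact (cancel_epi _).mp k2

end Groth.Agent.S5211
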