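import Groth.Statements.S8345
-- import your own Groth.Agent.* helpers here

set_option autoImplicit false
universe u
open ConstrTop

namespace Groth.Agent.S8345

open TopologicalSpace in
/-- Suppose X is a topological space that is Noetherian. Then a subset s of X is constructible exactly
when s can be written as the union of finitely many locally closed subsets of X. -/
theorem result {X : Type u} [TopologicalSpace X]
    [NoetherianSpace X] (s : Set X) :
    Topology.IsConstructible s ↔
      ∃ (n : ℕ) (Z : Fin n → Set X), (∀ i, IsLocallyClosed (Z i)) ∧ s = ⋃ i, Z i := by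
  have hret : ∀ t : Set X, IsRetrocompact t := fun t U _ _ => TopologicalSpace.NoetherianSpace.isCompact _
  have hopen : ∀ t : Set X, IsOpen t → Topology.IsConstructible t :=
    fun t ht => (hret t).isConstructible ht
  constructor
  · intro hs
    induction s, hs using BooleanSubalgebra.closure_sdiff_sup_induction with
    | isSublattice =>
      exact ⟨fun s hs t ht ↦ ⟨hs.1.union ht.1, hs.2.union ht.2⟩,
        fun s hs t ht ↦ ⟨hs.1.inter ht.1, hs.2.inter_isOpen ht.2 ht.1⟩⟩
    | bot_mem => exact ⟨isOpen_empty, .empty⟩
    | top_mem => exact ⟨isOpen_univ, .univ⟩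
    | sdiff U hU V hV =>
      refine ⟨1, fun _ => U \ V, fun _ => ?_, ?_⟩
      · exact hU.1.isLocallyClosed.inter hV.1.isClosed_compl.isLocallyClosed
      · exact (Set.iUnion_const _).symm
    | sup s _ t _ hs' ht' =>
      obtain ⟨n, Z, hZ, rfl⟩ := hs'
      obtain ⟨m, W, hW, rfl⟩ := ht'
      refine ⟨n + m, Fin.append Z W, ?_, ?_⟩
      · intro i
        refine Fin.addCases (fun i => ?_) (fun i => ?_) i
        · simpa using hZ i
        · simpa using hW i
      · ext x
        simp only [Set.sup_eq_union, Set.mem_union, Set.mem_iUnion]
        constructor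
        · rintro (⟨i, hi⟩ | ⟨i, hi⟩)
          · exact ⟨Fin.castAdd m i, by simpa using hi⟩
          · exact ⟨Fin.natAdd n i, by simpa using hi⟩
        · rintro ⟨i, hi⟩
          revert hi
          refine Fin.addCases (fun i hi => ?_) (fun i hi => ?_) i
          · left; exact ⟨i, by simpa using hi⟩
          · right; exact ⟨i, by simpa using hi⟩
  · rintro ⟨n, Z, hZ, rfl⟩
    refine Topology.IsConstructible.iUnion fun i => ?_
    obtain ⟨U, C, hU, hC, h⟩ := hZ i
    rw [h]
    exact (hopen U hU).inter (Topology.isConstructible_compl.mp (hopen Cᶜ hC.isOpen_compl))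

end Groth.Agent.S8345
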