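import Groth.Statements.S7553
import Groth.Agent.S8345
-- import your own Groth.Agent.* helpers here

set_option autoImplicit false
universe u
open ConstrTop

namespace Groth.Agent.S7553

theorem aux {X : Type u} [TopologicalSpace X] [TopologicalSpace.NoetherianSpace X] [QuasiSober X]
    (E : Set X) (hE : Topology.IsConstructible E) (hs : StableUnderSpecialization E) :
    IsClosed E := by
  rw [← closure_subset_iff_isClosed]
  intro x hxA
  have hPtop : x ∈ closure (E ∩ ((⊤ : TopologicalSpace.Closeds X) : Set X)) := by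
    simpa using hxA
  obtain ⟨C, hC, hmin⟩ := (wellFounded_lt (α := TopologicalSpace.Closeds X)).has_min
    {C | x ∈ closure (E ∩ (C : Set X))} ⟨⊤, hPtop⟩
  have hC' : x ∈ closure (E ∩ (C : Set X)) := hC
  have hmin' : ∀ D : TopologicalSpace.Closeds X, x ∈ closure (E ∩ (D : Set X)) →
      D ≤ C → (C : Set X) ⊆ D := by
    intro D hD hle
    by_contra hne
    apply hmin D hD
    refine lt_of_le_of_ne hle ?_
    rintro rfl
    exact hne subset_rfl
  have hCsub : (C : Set X) ⊆ closure (E ∩ (C : Set X)) := by
    refine hmin' ⟨closure (E ∩ (C : Set X)), isClosed_closure⟩ ?_ ?_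
    · refine closure_mono ?_ hC'
      intro z hz
      exact ⟨hz.1, subset_closure hz⟩
    · exact closure_minimal Set.inter_subset_right C.isClosed
  have hxC : x ∈ (C : Set X) := closure_minimal Set.inter_subset_right C.isClosed hC'
  have hirr : IsIrreducible (C : Set X) := by
    refine ⟨⟨x, hxC⟩, ?_⟩
    rw [isPreirreducible_iff_isClosed_union_isClosed]
    intro Z1 Z2 hZ1 hZ2 hsub
    have hx' : x ∈ closure (E ∩ ((C : Set X) ∩ Z1)) ∪
        closure (E ∩ ((C : Set X) ∩ Z2)) := by
      rw [← closure_union]
      refine closure_mono ?_ hC'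
      rintro z ⟨hzA, hzC⟩
      rcases hsub hzC with h | h
      · exact Or.inl ⟨hzA, hzC, h⟩
      · exact Or.inr ⟨hzA, hzC, h⟩
    rcases hx' with h | h
    · left
      exact (hmin' ⟨(C : Set X) ∩ Z1, C.isClosed.inter hZ1⟩ h Set.inter_subset_left).trans
        Set.inter_subset_right
    · right
      exact (hmin' ⟨(C : Set X) ∩ Z2, C.isClosed.inter hZ2⟩ h Set.inter_subset_left).trans
        Set.inter_subset_right
  obtain ⟨ξ, hξ⟩ := QuasiSober.sober hirr C.isClosed
  have hξx : ξ ⤳ x := by
    rw [specializes_iff_mem_closure, hξ.def]; exact hxC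
  refine hs hξx ?_
  obtain ⟨n, L, hL, hEL⟩ := (Groth.Agent.S8345.result E).mp hE
  have hcov : (C : Set X) ⊆ ⋃ i, closure (L i ∩ (C : Set X)) := by
    refine hCsub.trans ?_
    rw [hEL, Set.iUnion_inter, closure_iUnion_of_finite]
  obtain ⟨i, hi⟩ : ∃ i, (C : Set X) ⊆ closure (L i ∩ (C : Set X)) := by
    classical
    have := (isIrreducible_iff_sUnion_isClosed.mp hirr)
      (Finset.univ.image fun i => closure (L i ∩ (C : Set X))) (by
      intro z hz
      simp only [Finset.mem_image, Finset.mem_univ, true_and] at hz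
      obtain ⟨i, rfl⟩ := hz
      exact isClosed_closure) (by
      intro z hz
      obtain ⟨i, hi⟩ := Set.mem_iUnion.mp (hcov hz)
      exact ⟨_, by simp, hi⟩)
    obtain ⟨z, hz, hCz⟩ := this
    simp only [Finset.mem_image, Finset.mem_univ, true_and] at hz
    obtain ⟨i, rfl⟩ := hz
    exact ⟨i, hCz⟩
  obtain ⟨U, Z, hU, hZ, hLi⟩ := hL i
  have hξcl : ξ ∈ closure (L i ∩ (C : Set X)) := hi hξ.mem
  have hξZ : ξ ∈ Z := by
    have : closure (L i ∩ (C : Set X)) ⊆ Z :=
      closure_minimal (by rw [hLi]; exact fun z hz => hz.1.2) hZ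
    exact this hξcl
  have hξU : ξ ∈ U := by
    have hne : (L i ∩ (C : Set X)).Nonempty := by
      by_contra h
      rw [Set.not_nonempty_iff_eq_empty] at h
      rw [h, closure_empty] at hξcl
      exact hξcl
    obtain ⟨a, haL, haC⟩ := hne
    have h1 : ξ ⤳ a := by rw [specializes_iff_mem_closure, hξ.def]; exact haC
    rw [hLi] at haL
    exact h1.mem_open hU haL.1
  rw [hEL]
  exact Set.mem_iUnion.mpr ⟨i, by rw [hLi]; exact ⟨hξU, hξZ⟩⟩


/-- Let X be a Noetherian sober topological space and E ⊆ X. (1) A constructible E that is closed under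
specialization is a closed subset. (2) A constructible E that is closed under generalization is an
open subset. -/
theorem result {X : Type u} [TopologicalSpace X]
    [TopologicalSpace.NoetherianSpace X] [QuasiSober X] [T0Space X] (E : Set X) (hE : Topology.IsConstructible E) :
    (StableUnderSpecialization E → IsClosed E) ∧ (StableUnderGeneralization E → IsOpen E) := by
  refine ⟨fun hs => aux E hE hs, fun hg => ?_⟩
  have := aux Eᶜ hE.compl hg.compl
  exact isClosed_compl_iff.mp this

end Groth.Agent.S7553
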